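import Cfsg.Agent.Lib.Elementary
import Mathlib

/-!
Additive maps of finite `p`-groups to `ZMod p`, and the alternating form of a maximal subgroup
with smaller derived subgroup.
-/

set_option autoImplicit false

namespace CfsgLib.Breadth

open scoped commutatorElement

universe u
variable {G : Type u} [Group G] {p : ℕ} [Fact p.Prime]

/-- An additive map. -/
def IsAdd (f : G → ZMod p) : Prop := ∀ x y, f (x * y) = f x + f y

namespace IsAdd

variable {f : G → ZMod p} (hf : IsAdd f)
include hf

theorem map_one : f 1 = 0 := by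
  have h := hf 1 1
  rw [mul_one] at h
  exact left_eq_add.1 h

theorem map_inv (x : G) : f x⁻¹ = -f x := by
  have h := hf x⁻¹ x
  rw [inv_mul_cancel, hf.map_one] at h
  exact eq_neg_of_add_eq_zero_left h.symm

theorem map_pow (x : G) (n : ℕ) : f (x ^ n) = n * f x := by
  induction n with
  | zero => rw [pow_zero, hf.map_one]; simp
  | succ n ih => rw [pow_succ, hf, ih]; push_cast; ring

/-- The kernel. -/
def ker : Subgroup G where
  carrier := {x | f x = 0}
  mul_mem' {a b} ha hb := by
    show f (a * b) = 0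
    rw [hf, show f a = 0 from ha, show f b = 0 from hb, add_zero]
  one_mem' := hf.map_one
  inv_mem' {a} ha := by
    show f a⁻¹ = 0
    rw [hf.map_inv, show f a = 0 from ha, neg_zero]

theorem mem_ker {x : G} : x ∈ hf.ker ↔ f x = 0 := Iff.rfl

instance ker_normal : hf.ker.Normal := ⟨fun n hn g => by
  rw [hf.mem_ker] at hn ⊢
  rw [hf, hf, hf.map_inv, hn]
  ring⟩

theorem eq_of_eqOn {f' : G → ZMod p} (hf' : IsAdd f') {S : Set G} (hS : Subgroup.closure S = ⊤)
    (h : ∀ x ∈ S, f x = f' x) (x : G) : f x = f' x := by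
  have hd : IsAdd fun y => f y - f' y := fun a b => by simp only [hf a b, hf' a b]; ring
  have hle : Subgroup.closure S ≤ hd.ker := (Subgroup.closure_le _).2 fun y hy => sub_eq_zero.2 (h y hy)
  rw [hS] at hle
  exact sub_eq_zero.1 (hle (Subgroup.mem_top x))

theorem index_ker [Finite G] {z : G} (hz : f z ≠ 0) : hf.ker.index = p := by
  let φ : G →* Multiplicative (ZMod p) :=
    { toFun := fun x => Multiplicative.ofAdd (f x)
      map_one' := by simp [hf.map_one]
      map_mul' := fun a b => by simp [hf a b] }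
  have e : hf.ker = φ.ker := by
    ext x
    rw [hf.mem_ker, MonoidHom.mem_ker]
    exact ⟨fun h => congrArg Multiplicative.ofAdd h, fun h => Multiplicative.ofAdd.injective h⟩
  rw [e, Subgroup.index_ker]
  have h2 : Nat.card φ.range ∣ p := by
    have := Subgroup.card_subgroup_dvd_card φ.range
    rwa [show Nat.card (Multiplicative (ZMod p)) = p from Nat.card_zmod p] at this
  rcases (Nat.dvd_prime (Fact.out : p.Prime)).1 h2 with h | h
  · exact absurd (by
      have := (Subgroup.eq_bot_of_card_eq φ.range h) ▸ (show φ z ∈ φ.range from ⟨z, rfl⟩)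
      exact Multiplicative.ofAdd.injective (Subgroup.mem_bot.1 this)) hz
  · exact h

end IsAdd

theorem isAdd_sum {ι : Type*} (s : Finset ι) (a : ι → ZMod p) {χ : ι → G → ZMod p}
    (h : ∀ i, IsAdd (χ i)) : IsAdd fun x => ∑ i ∈ s, a i * χ i x := fun x y => by
  simp only [h _ x y, mul_add, Finset.sum_add_distrib]

/-- The additive map of a maximal subgroup taking the value one at a given outside element. -/
theorem exists_isAdd [Finite G] (hG : IsPGroup p G) {M : Subgroup G} (hM : IsCoatom M) {c : G}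
    (hc : c ∉ M) : ∃ f : G → ZMod p, IsAdd f ∧ f c = 1 ∧ ∀ x, f x = 0 ↔ x ∈ M := by
  obtain ⟨hn, hi⟩ := CfsgLib.index_coatom_pGroup hG hM
  have hcard : Nat.card (G ⧸ M) = p := hi
  haveI := isCyclic_of_prime_card hcard
  let e : G ⧸ M ≃* Multiplicative (ZMod p) :=
    mulEquivOfPrimeCardEq hcard (show Nat.card (Multiplicative (ZMod p)) = p from Nat.card_zmod p)
  let g : G → ZMod p := fun x => Multiplicative.toAdd (e (x : G ⧸ M))
  have hg : ∀ x, g x = 0 ↔ x ∈ M := fun x => by
    rw [← QuotientGroup.eq_one_iff x]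
    constructor
    · intro h
      exact e.injective ((Multiplicative.toAdd.injective h).trans (_root_.map_one e).symm)
    · intro h
      show Multiplicative.toAdd (e (x : G ⧸ M)) = 0
      rw [h, _root_.map_one]
      rfl
  have hgc : g c ≠ 0 := fun h => hc ((hg c).1 h)
  refine ⟨fun x => (g c)⁻¹ * g x, fun x y => ?_, inv_mul_cancel₀ hgc, fun x => ?_⟩
  · show _ * Multiplicative.toAdd (e (((x * y : G)) : G ⧸ M)) = _
    rw [QuotientGroup.mk_mul, _root_.map_mul, toAdd_mul, mul_add]
  · rw [mul_eq_zero, inv_eq_zero, or_iff_right hgc, hg]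

/-- The form of a maximal subgroup with smaller derived subgroup. -/
theorem exists_form [Finite G] (hG : IsPGroup p G) {f : G → ZMod p} (hf : IsAdd f) {z : G} (hz : f z = 1)
    (hlt : ⁅hf.ker, hf.ker⁆ < commutator G) :
    ∃ φ : G → ZMod p, IsAdd φ ∧ φ z = 0 ∧ (∃ x, φ x ≠ 0) ∧
      ∀ x y, Commute x y → f x * φ y = f y * φ x := by
  classical
  let S : Set (Subgroup G) := {N | N.Normal ∧ ⁅hf.ker, hf.ker⁆ ≤ N ∧ N < commutator G}
  obtain ⟨N, ⟨hNn, hLN, hNlt⟩, hmax⟩ := (Set.toFinite S).exists_maximal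
    ⟨⁅hf.ker, hf.ker⁆, inferInstance, le_rfl, hlt⟩
  haveI := hNn
  set π := QuotientGroup.mk' N with hπ
  set K := (commutator G).map π with hK
  have hQ : IsPGroup p (G ⧸ N) := hG.to_quotient N
  haveI := hQ.isNilpotent
  haveI : K.Normal := Subgroup.Normal.map inferInstance π (QuotientGroup.mk'_surjective N)
  have hK1 : K ≠ ⊥ := fun h => hNlt.not_ge (by
    rw [hK, Subgroup.map_eq_bot_iff, hπ, QuotientGroup.ker_mk'] at h
    exact h)
  have key : ∀ A : Subgroup (G ⧸ N), A.Normal → A ≤ K → A ≠ ⊥ → A = K := by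
    intro A hA hAK hA1
    haveI := hA
    by_contra hne
    have h1 : N ≤ A.comap π := fun x hx => by
      show π x ∈ A
      rw [show π x = 1 from (QuotientGroup.eq_one_iff x).2 hx]
      exact one_mem A
    have h2 : A.comap π < commutator G := by
      refine lt_of_le_of_ne ?_ fun e => hne ?_
      · refine (Subgroup.comap_mono hAK).trans ?_
        rw [hK, Subgroup.comap_map_eq, hπ, QuotientGroup.ker_mk']
        exact sup_le le_rfl hNlt.le
      · rw [hK, ← e, Subgroup.map_comap_eq_self_of_surjective (QuotientGroup.mk'_surjective N)]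
    have h3 := hmax ⟨inferInstance, hLN.trans h1, h2⟩ h1
    refine hA1 ((Subgroup.eq_bot_iff_forall A).2 fun a ha => ?_)
    obtain ⟨x, rfl⟩ := QuotientGroup.mk'_surjective N a
    exact (QuotientGroup.eq_one_iff x).2 (h3 ha)
  have hcen : K ≤ Subgroup.center (G ⧸ N) := by
    have h := key (K ⊓ Subgroup.center _) inferInstance inf_le_left
      (CfsgLib.inf_center_ne_bot_of_nilpotent hK1)
    exact h ▸ inf_le_right
  have hcard : Nat.card K = p := by
    haveI : Nontrivial K := (Subgroup.nontrivial_iff_ne_bot K).2 hK1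
    obtain ⟨n, hn0, hn⟩ := (hQ.to_subgroup K).nontrivial_iff_card.1 inferInstance
    obtain ⟨x, hx⟩ := exists_prime_orderOf_dvd_card' p (G := K) (hn ▸ dvd_pow_self p hn0.ne')
    have hxp : orderOf (x : G ⧸ N) = p := by rw [Subgroup.orderOf_coe, hx]
    have hnorm : (Subgroup.zpowers (x : G ⧸ N)).Normal := ⟨fun a ha g => by
      obtain ⟨k, rfl⟩ := Subgroup.mem_zpowers_iff.1 ha
      rw [(Subgroup.mem_center_iff.1 (hcen (zpow_mem x.2 k)) g), mul_inv_cancel_right]
      exact ha⟩
    have h := key _ hnorm ((Subgroup.zpowers_le).2 x.2) (fun e => (Fact.out : p.Prime).one_lt.ne (by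
      rw [← hxp, ← Nat.card_zpowers, e, Subgroup.card_bot]))
    rw [← h, Nat.card_zpowers, hxp]
  haveI := isCyclic_of_prime_card hcard
  let e : K ≃* Multiplicative (ZMod p) :=
    mulEquivOfPrimeCardEq hcard (show Nat.card (Multiplicative (ZMod p)) = p from Nat.card_zmod p)
  have hmem : ∀ x y : G, ⁅π x, π y⁆ ∈ K := fun x y =>
    ⟨⁅x, y⁆, Subgroup.commutator_mem_commutator (Subgroup.mem_top x) (Subgroup.mem_top y),
      map_commutatorElement π x y⟩
  let ω : G → G → ZMod p := fun x y => Multiplicative.toAdd (e ⟨⁅π x, π y⁆, hmem x y⟩)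
  have hω1 : ∀ x y, ω x y = 0 ↔ ⁅π x, π y⁆ = 1 := fun x y => by
    constructor
    · intro h
      exact congrArg Subtype.val (e.injective ((Multiplicative.toAdd.injective h).trans (map_one e).symm))
    · intro h
      show Multiplicative.toAdd (e _) = 0
      rw [show (⟨⁅π x, π y⁆, hmem x y⟩ : K) = 1 from Subtype.ext h, map_one]
      rfl
  have hadd : ∀ (a b c : K), c = a * b →
      Multiplicative.toAdd (e c) = Multiplicative.toAdd (e a) + Multiplicative.toAdd (e b) := by
    rintro a b c rfl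
    rw [map_mul, toAdd_mul]
  have hr : ∀ x, IsAdd (ω x) := fun x a b => hadd _ _ _ (Subtype.ext (by
    show ⁅π x, π (a * b)⁆ = ⁅π x, π a⁆ * ⁅π x, π b⁆
    have hc := (Subgroup.mem_center_iff.1 (hcen (hmem x b)) (π a))
    rw [map_mul, show ⁅π x, π a * π b⁆ = ⁅π x, π a⁆ * (π a * ⁅π x, π b⁆ * (π a)⁻¹) by
      simp only [commutatorElement_def]; group, hc, mul_inv_cancel_right]))
  have hanti : ∀ x y, ω y x = -ω x y := fun x y => by
    rw [eq_neg_iff_add_eq_zero, ← hadd ⟨_, hmem y x⟩ ⟨_, hmem x y⟩ 1 (Subtype.ext (by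
      show 1 = ⁅π y, π x⁆ * ⁅π x, π y⁆
      rw [← commutatorElement_inv (π x) (π y), inv_mul_cancel])), map_one]
    rfl
  have hl : ∀ y, IsAdd fun x => ω x y := fun y a b => by
    simp only
    rw [hanti y (a * b), hr y a b, hanti y a, hanti y b]
    ring
  have hl2 : ∀ a b y, ω (a * b) y = ω a y + ω b y := fun a b y => hl y a b
  have hlp : ∀ a (n : ℕ) y, ω (a ^ n) y = n * ω a y := fun a n y => (hl y).map_pow a n
  have hLL : ∀ l m, f l = 0 → f m = 0 → ω l m = 0 := fun l m hl hm => (hω1 l m).2 (by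
    rw [← map_commutatorElement]
    exact (QuotientGroup.eq_one_iff _).2
      (hLN (Subgroup.commutator_mem_commutator (hf.mem_ker.2 hl) (hf.mem_ker.2 hm))))
  have hzz : ω z z = 0 := (hω1 z z).2 (commutatorElement_self _)
  -- the form in terms of `φ = ω z`
  have hform : ∀ x y, ω x y = f x * ω z y - f y * ω z x := by
    intro x y
    have split : ∀ x, ∃ l, f l = 0 ∧ x = z ^ (f x).val * l := fun x =>
      ⟨(z ^ (f x).val)⁻¹ * x, by rw [hf, hf.map_inv, hf.map_pow, hz, ZMod.natCast_zmod_val]; ring,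
        (mul_inv_cancel_left _ _).symm⟩
    obtain ⟨l, hl0, hxe⟩ := split x
    obtain ⟨m, hm0, hye⟩ := split y
    have ez : ∀ x l : G, x = z ^ (f x).val * l → ω z x = ω z l := fun x l h => by
      conv_lhs => rw [h]
      rw [hr z, (hr z).map_pow, hzz, mul_zero, zero_add]
    rw [ez x l hxe, ez y m hye]
    conv_lhs => rw [hxe, hye]
    rw [hl2, hlp, hr z, (hr z).map_pow, hzz, hr l, (hr l).map_pow,
      hLL l m hl0 hm0, hanti z l, ZMod.natCast_zmod_val, ZMod.natCast_zmod_val]
    ring
  refine ⟨ω z, hr z, hzz, ?_, fun x y hxy => ?_⟩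
  · by_contra hc
    push Not at hc
    refine hNlt.not_ge ?_
    rw [commutator_def, Subgroup.commutator_le]
    intro x _ y _
    rw [← QuotientGroup.eq_one_iff]
    have h := hform x y
    rw [hc x, hc y, mul_zero, mul_zero, sub_zero, hω1] at h
    rw [← h, ← map_commutatorElement]
    rfl
  · have h := hform x y
    rw [(hω1 x y).2 (commutatorElement_eq_one_iff_commute.2 (hxy.map π))] at h
    exact sub_eq_zero.1 h.symm

end CfsgLib.Breadth
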