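import Mathlib

/-!
A determinant identity from the Chevalley–Warning sum: over a finite field, a family of pairs of
vectors with independent differences admits a functional which is only proportional to itself.
-/

set_option autoImplicit false

namespace CfsgLib.Breadth

open Matrix MvPolynomial Finset

variable {F : Type*} [Field F] [Fintype F] {k : Type*} [Fintype k] [DecidableEq k] [Nonempty k]

/-- Some functional `a`, not a multiple of the special coordinate, is such that only `ψ = 0`
satisfies all the pair equations and vanishes at the special vector. -/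
theorem exists_unique_functional (u : k → Option k → F) (hu : ∀ j, u j none = 1) :
    ∃ a : Option k → F, (∀ t : F, a ≠ Pi.single none t) ∧
      ∀ ψ : Option k → F, ψ none = 0 →
        (∀ j, (a ⬝ᵥ u j + a (some j)) * (ψ ⬝ᵥ u j) = (a ⬝ᵥ u j) * (ψ ⬝ᵥ u j + ψ (some j))) →
        ψ = 0 := by
  classical
  let v : k → Option k → F := fun j => u j + Pi.single (some j) 1
  have hv : ∀ (b : Option k → F) (j : k), b ⬝ᵥ v j = b ⬝ᵥ u j + b (some j) := fun b j => by
    simp [v, dotProduct_add]
  let M : (Option k → F) → Matrix (Option k) (Option k) F := fun a i c =>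
    c.elim (if i = none then 1 else 0) fun j => (a ⬝ᵥ v j) * u j i - (a ⬝ᵥ u j) * v j i
  suffices h : ∃ a : Option k → F, (∀ t : F, a ≠ Pi.single none t) ∧ (M a).det ≠ 0 by
    obtain ⟨a, ha, hdet⟩ := h
    refine ⟨a, ha, fun ψ h0 hψ => ?_⟩
    by_contra hne
    refine hdet (exists_vecMul_eq_zero_iff.1 ⟨ψ, hne, funext fun c => ?_⟩)
    cases c with
    | none => simp [Matrix.vecMul, dotProduct, M, h0]
    | some j =>
      have e : ψ ᵥ* M a = fun c => ∑ i, ψ i * M a i c := rfl
      rw [e]
      show ∑ i, ψ i * ((a ⬝ᵥ v j) * u j i - (a ⬝ᵥ u j) * v j i) = 0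
      have h1 := hψ j
      rw [← hv a j, ← hv ψ j] at h1
      simp only [mul_sub, Finset.sum_sub_distrib, mul_left_comm (ψ _)]
      rw [← Finset.mul_sum, ← Finset.mul_sum]
      exact sub_eq_zero.2 h1
  by_contra hc
  push Not at hc
  set q := Fintype.card F with hq
  have hq2 : 2 ≤ q := Fintype.one_lt_card
  set n := Fintype.card k with hn
  have hn0 : 0 < n := Fintype.card_pos
  set K := (q - 1 - n % (q - 1)) % (q - 1) with hK
  have hKlt : K < q - 1 := Nat.mod_lt _ (by omega)
  have hdiv : q - 1 ∣ n + K := by
    have h1 : n % (q - 1) < q - 1 := Nat.mod_lt _ (by omega)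
    have h2 := Nat.div_add_mod n (q - 1)
    rw [hK]
    rcases Nat.eq_zero_or_pos (n % (q - 1)) with h | h
    · rw [h, Nat.sub_zero, Nat.mod_self, add_zero]
      exact Nat.dvd_of_mod_eq_zero h
    · rw [Nat.mod_eq_of_lt (by omega)]
      exact ⟨n / (q - 1) + 1, by rw [Nat.mul_succ]; omega⟩
  -- the polynomial
  let dotP : (Option k → F) → MvPolynomial (Option k) F := fun x => ∑ i, C (x i) * X i
  have hdP : ∀ x, (dotP x).totalDegree ≤ 1 := fun x =>
    (totalDegree_finsetSum _ _).trans (Finset.sup_le fun i _ => (totalDegree_mul _ _).trans (by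
      rw [totalDegree_C, zero_add, totalDegree_X]))
  let L : Matrix (Option k) (Option k) (MvPolynomial (Option k) F) := fun i c =>
    c.elim (C (if i = none then 1 else 0)) fun j => dotP (v j) * C (u j i) - dotP (u j) * C (v j i)
  have hL : ∀ i c, (L i c).totalDegree ≤ c.elim 0 fun _ => 1 := by
    intro i c
    cases c with
    | none => exact (totalDegree_C _).le
    | some j =>
      have hm : ∀ (x : Option k → F) (s : F), (dotP x * C s).totalDegree ≤ 1 := fun x s =>
        (totalDegree_mul _ _).trans (by rw [totalDegree_C, add_zero]; exact hdP x)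
      exact (totalDegree_sub _ _).trans (max_le (hm _ _) (hm _ _))
  have hd : L.det.totalDegree ≤ n := by
    rw [Matrix.det_apply']
    refine (totalDegree_finsetSum _ _).trans (Finset.sup_le fun σ _ => ?_)
    refine (totalDegree_mul _ _).trans ?_
    rw [show ((Equiv.Perm.sign σ : ℤ) : MvPolynomial (Option k) F) = C ((Equiv.Perm.sign σ : ℤ) : F) by simp,
      totalDegree_C, zero_add]
    refine (totalDegree_finsetProd _ _).trans ?_
    calc ∑ c, (L (σ c) c).totalDegree ≤ ∑ c : Option k, c.elim 0 fun _ => 1 :=
          Finset.sum_le_sum fun c _ => hL _ c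
      _ = n := by simp [Fintype.sum_option, hn]
  let P : MvPolynomial (Option k) F := L.det * (X none) ^ K
  have hP : P.totalDegree < (q - 1) * Fintype.card (Option k) := by
    refine lt_of_le_of_lt ((totalDegree_mul _ _).trans (add_le_add hd (totalDegree_pow _ _))) ?_
    rw [totalDegree_X, mul_one, Fintype.card_option, ← hn, Nat.mul_succ]
    have : n ≤ (q - 1) * n := Nat.le_mul_of_pos_left _ (by omega)
    omega
  have heval : ∀ a, eval a P = (M a).det * a none ^ K := fun a => by
    simp only [P, map_mul, map_pow, eval_X, RingHom.map_det]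
    congr 2
    ext i c
    rw [RingHom.mapMatrix_apply, Matrix.map_apply]
    cases c with
    | none => cases i <;> simp [L, M]
    | some j =>
      have e : ∀ x, eval a (dotP x) = a ⬝ᵥ x := fun x => by
        simp [dotP, dotProduct, mul_comm]
      simp [L, M, e]
  have hsum := MvPolynomial.sum_eval_eq_zero P hP
  have hline : ∀ t : F, (M (Pi.single none t)).det = (-t) ^ n := fun t => by
    have e : M (Pi.single none t) = diagonal fun c => c.elim 1 fun _ => -t := by
      ext i c
      cases c with
      | none => cases i <;> simp [M]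
      | some j =>
        cases i with
        | none => simp [M, v, hu, Pi.single_apply, eq_comm]
        | some i =>
          by_cases h : i = j
          · subst h
            simp [M, v, hu, Pi.single_apply]
            ring
          · simp [M, v, hu, Pi.single_apply, h]
    rw [e, Matrix.det_diagonal]
    simp [Fintype.prod_option, hn]
  have hsplit : ∑ a, eval a P = ∑ t : F, eval (Pi.single none t) P := by
    refine (Finset.sum_of_injOn (fun t => Pi.single none t) (fun s _ t _ h => by
      have := congrFun h none
      simpa using this) (fun _ _ => Finset.mem_univ _) (fun a _ ha => ?_) fun _ _ => rfl).symm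
    rw [heval, hc a fun t e => ha ⟨t, Finset.mem_coe.2 (Finset.mem_univ t), e.symm⟩, zero_mul]
  rw [hsum] at hsplit
  have hpow : ∀ t : F, eval (Pi.single none t) P = (-1 : F) ^ n * if t = 0 then 0 else 1 := fun t => by
    rw [heval, hline, Pi.single_eq_same, neg_eq_neg_one_mul, mul_pow, mul_assoc, ← pow_add]
    split_ifs with h
    · rw [h, zero_pow (by omega), mul_zero]
    · obtain ⟨c, hc'⟩ := hdiv
      rw [hc', pow_mul, FiniteField.pow_card_sub_one_eq_one t h, one_pow]
  simp only [hpow, ← Finset.mul_sum] at hsplit
  have hcount : ∑ t : F, (if t = 0 then (0 : F) else 1) = -1 := by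
    have h1 : ∑ t : F, ((if t = 0 then (0 : F) else 1) + if t = 0 then 1 else 0) = 0 := by
      rw [Finset.sum_congr rfl (g := fun _ => (1 : F)) fun t _ => by split_ifs <;> simp]
      simp
    rw [Finset.sum_add_distrib] at h1
    simpa [eq_neg_iff_add_eq_zero] using h1
  rw [hcount] at hsplit
  exact neg_ne_zero.2 (one_ne_zero (α := F)) ((mul_eq_zero.1 hsplit.symm).resolve_left
    (pow_ne_zero _ (neg_ne_zero.2 one_ne_zero)))

end CfsgLib.Breadth
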