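import Cfsg.Agent.Lib.Breadth.Det
import Cfsg.Agent.Lib.Breadth.Coord

/-!
The breadth bound `#G' ≤ p ^ (b (b + 1) / 2)`: it suffices that the elements outside some proper
subgroup have breadth at most `b`.
-/

set_option autoImplicit false

namespace CfsgLib.Breadth

open scoped commutatorElement
open Matrix Subgroup

universe u
variable {p : ℕ} [Fact p.Prime]

/-- Some maximal subgroup other than `M` contains the centraliser of each of its elements outside `M`
whose centraliser is proper, provided every other maximal subgroup has smaller derived subgroup. -/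
theorem exists_closed {G : Type u} [Group G] [Finite G] (hG : IsPGroup p G) {M : Subgroup G} (hM : IsCoatom M)
    (hne : ∃ L : Subgroup G, IsCoatom L ∧ L ≠ M)
    (hsmall : ∀ L : Subgroup G, IsCoatom L → L ≠ M → ⁅L, L⁆ < commutator G) :
    ∃ L : Subgroup G, IsCoatom L ∧ L ≠ M ∧
      ∀ y ∈ L, y ∉ M → centralizer ({y} : Set G) ≤ L := by
  classical
  obtain ⟨x₀, -, hx₀⟩ := SetLike.exists_of_lt hM.1.lt_top
  obtain ⟨α, hα, hαx, hαM⟩ := exists_isAdd hG hM hx₀
  -- the differences of commuting pairs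
  let D : Set G := {d | ∃ y k, Commute y k ∧ α y = 1 ∧ α k = 1 ∧ d = y⁻¹ * k}
  by_cases hgen : closure (insert x₀ D) ⊔ frattini G = ⊤
  · exfalso
    have hgen' : closure (insert x₀ D) = ⊤ := frattini_nongenerating hgen
    haveI : Fintype G := Fintype.ofFinite G
    obtain ⟨T, ⟨hTD, hT⟩, hmin⟩ := ({T : Set G | T ⊆ D ∧ closure (insert x₀ T) = ⊤} : Set (Set G)).toFinite.exists_minimal
      ⟨D, subset_rfl, hgen'⟩
    -- a coordinate for each generator
    have hTne : Nonempty T := by
      by_contra hc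
      obtain ⟨L, hL, hLM⟩ := hne
      have hT0 : T = ∅ := Set.eq_empty_iff_forall_notMem.2 fun d hd => hc ⟨⟨d, hd⟩⟩
      rw [hT0] at hT
      have hx : x₀ ∉ L := fun hx => hL.1 (eq_top_iff.2 (hT ▸ (closure_le L).2 (by simpa using hx)))
      obtain ⟨β, hβ, hβx, hβL⟩ := exists_isAdd hG hL hx
      refine hLM (SetLike.ext fun g => ?_)
      rw [← hαM, ← hβL, IsAdd.eq_of_eqOn hα hβ hT (by simp [hαx, hβx]) g]
    have hex : ∀ d : T, ∃ χ : G → ZMod p, IsAdd χ ∧ χ d = 1 ∧ χ x₀ = 0 ∧ ∀ e : T, e ≠ d → χ e = 0 := by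
      intro d
      have hd : closure (insert x₀ (T \ {(d : G)})) ≠ ⊤ := fun e => by
        have := hmin (show T \ {(d : G)} ∈ ({T : Set G | T ⊆ D ∧ closure (insert x₀ T) = ⊤} : Set (Set G))
          from ⟨Set.sdiff_subset.trans hTD, e⟩) Set.sdiff_subset d.2
        exact this.2 rfl
      obtain ⟨H, hH, hle⟩ := (eq_top_or_exists_le_coatom _).resolve_left hd
      have hdH : (d : G) ∉ H := fun h => hH.1 (eq_top_iff.2 (hT ▸ (closure_le H).2 (by
        rintro g (rfl | hg)
        · exact hle (subset_closure (Set.mem_insert _ _))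
        · by_cases e : g = d
          · exact e ▸ h
          · exact hle (subset_closure (Set.mem_insert_of_mem _ ⟨hg, e⟩)))))
      obtain ⟨χ, hχ, hχd, hχH⟩ := exists_isAdd hG hH hdH
      exact ⟨χ, hχ, hχd, (hχH _).2 (hle (subset_closure (Set.mem_insert _ _))), fun e he =>
        (hχH _).2 (hle (subset_closure (Set.mem_insert_of_mem _ ⟨e.2, fun h => he (Subtype.ext h)⟩)))⟩
    choose χ hχ hχd hχx hχe using hex
    let c : Option T → G → ZMod p := fun i => i.elim α χ
    have hc : ∀ i, IsAdd (c i) := fun i => by cases i <;> [exact hα; exact hχ _]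
    choose y k hyk hαy hαk hd using fun d : T => hTD d.2
    have hαd : ∀ d : T, α d = 0 := fun d => by
      rw [hd, hα, hα.map_inv, hαy, hαk, neg_add_cancel]
    haveI : Fintype T := Fintype.ofFinite _
    let u : T → Option T → ZMod p := fun d i => c i (y d)
    obtain ⟨a, ha, haψ⟩ := exists_unique_functional u fun d => hαy d
    -- the maximal subgroup of `a`
    let f : G → ZMod p := fun g => ∑ i, a i * c i g
    have hf : IsAdd f := isAdd_sum _ a hc
    have hfd : ∀ d : T, f d = a (some d) := fun d => by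
      show ∑ i, a i * c i (d : G) = _
      rw [Fintype.sum_option, Finset.sum_eq_single d (fun e _ he => by
        show a (some e) * χ e d = 0
        rw [hχe e d he.symm, mul_zero]) (by simp)]
      show a none * α d + a (some d) * χ d d = _
      rw [hαd, hχd, mul_zero, mul_one, zero_add]
    obtain ⟨d₀, hd₀⟩ : ∃ d : T, a (some d) ≠ 0 := by
      by_contra hall
      push Not at hall
      exact ha (a none) (funext fun i => by cases i <;> simp [hall])
    have hfd₀ : f d₀ ≠ 0 := by rw [hfd]; exact hd₀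
    set L := hf.ker
    have hLi : L.index = p := hf.index_ker hfd₀
    have hL : IsCoatom L := by
      refine ⟨fun e => (Fact.out : p.Prime).one_lt.ne (by rw [← hLi, e, index_top]), fun U hU => ?_⟩
      rcases (Nat.dvd_prime (Fact.out : p.Prime)).1 (hLi ▸ index_dvd_of_le hU.le) with h | h
      · exact index_eq_one.1 h
      · exact absurd (eq_of_le_of_card_ge hU.le (le_of_eq (Nat.eq_of_mul_eq_mul_right
          (Fact.out : p.Prime).pos (by rw [← h, U.card_mul_index, h, ← hLi, L.card_mul_index])))) hU.ne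
    have hLM : L ≠ M := fun e => hfd₀ (show (d₀ : G) ∈ L by rw [e, ← hαM]; exact hαd d₀)
    let z : G := (d₀ : G) ^ ((f d₀)⁻¹).val
    have hz : f z = 1 := by rw [hf.map_pow, ZMod.natCast_zmod_val, inv_mul_cancel₀ hfd₀]
    obtain ⟨φ, hφ, hφz, ⟨g₀, hg₀⟩, hφc⟩ := exists_form hG hf hz (hsmall L hL hLM)
    -- normalise `φ` at `x₀`
    obtain ⟨ψf, hψf, hψ0, hψx, hψc⟩ : ∃ ψf : G → ZMod p, IsAdd ψf ∧ (∃ g, ψf g ≠ 0) ∧ ψf x₀ = 0 ∧
        ∀ x y, Commute x y → f x * ψf y = f y * ψf x := by
      by_cases h0 : f x₀ = 0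
      · exact ⟨f, hf, ⟨z, by rw [hz]; exact one_ne_zero⟩, h0, fun x y _ => mul_comm _ _⟩
      · by_cases h1 : φ x₀ = 0
        · exact ⟨φ, hφ, ⟨g₀, hg₀⟩, h1, hφc⟩
        refine ⟨fun g => φ g - φ x₀ / f x₀ * f g, fun x y => by simp only [hφ x y, hf x y]; ring, ?_, ?_, ?_⟩
        · refine ⟨z, ?_⟩
          show φ z - φ x₀ / f x₀ * f z ≠ 0
          rw [hφz, hz, zero_sub, mul_one, neg_ne_zero]
          exact div_ne_zero h1 h0
        · simp [h0]
        · intro x y hxy
          have := hφc x y hxy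
          linear_combination this
    let ψ : Option T → ZMod p := fun i => i.elim (ψf x₀) fun d => ψf d
    have hgenT : closure (insert x₀ (Set.range ((↑) : T → G))) = ⊤ := by rwa [Subtype.range_coe]
    have hψval : ∀ g, ψf g = ∑ i, ψ i * c i g := IsAdd.eq_of_eqOn hψf (isAdd_sum _ ψ hc) hgenT (by
      rintro g (rfl | ⟨d, rfl⟩)
      · simp [Fintype.sum_option, ψ, c, hαx, hχx]
      · rw [Fintype.sum_option, Finset.sum_eq_single d (fun e _ he => by
          show ψ (some e) * χ e d = 0
          rw [hχe e d he.symm, mul_zero]) (by simp)]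
        simp [ψ, c, hαd, hχd])
    have hdot : ∀ (b : Option T → ZMod p) (d : T), b ⬝ᵥ u d = ∑ i, b i * c i (y d) := fun b d => rfl
    have hψ := haψ ψ (by simpa [ψ] using hψx) fun d => by
      have h := hψc (k d) (y d) (hyk d).symm
      have e : k d = y d * d := by rw [hd d, mul_inv_cancel_left]
      rw [e, hf, hψf] at h
      rw [hdot, hdot, ← hψval, show a (some d) = f d from (hfd d).symm, show ψ (some d) = ψf d from rfl]
      exact h
    obtain ⟨g, hg⟩ := hψ0
    exact hg (by rw [hψval, hψ]; simp)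
  · -- a maximal subgroup above the differences
    set N := closure D ⊔ frattini G with hN
    have hNx : N ⊔ zpowers x₀ ≠ ⊤ := fun e => hgen (by
      rw [eq_top_iff, ← e, hN]
      refine sup_le (sup_le ((Subgroup.closure_mono (Set.subset_insert _ _)).trans le_sup_left) le_sup_right)
        (zpowers_le.2 (mem_sup_left (subset_closure (Set.mem_insert _ _)))))
    obtain ⟨L, hL, hle⟩ := (eq_top_or_exists_le_coatom _).resolve_left hNx
    have hLM : L ≠ M := fun e => hx₀ (e ▸ hle (mem_sup_right (mem_zpowers x₀)))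
    refine ⟨L, hL, hLM, fun y hy hyM k hk => ?_⟩
    by_contra hkL
    have hcomm : Commute y k := (mem_centralizer_singleton_iff.1 hk).symm
    have hαy : α y ≠ 0 := fun h => hyM ((hαM y).1 h)
    -- make the second element leave `M`
    obtain ⟨k₁, hk₁L, hk₁, hc₁⟩ : ∃ k₁, k₁ ∉ L ∧ α k₁ ≠ 0 ∧ Commute y k₁ := by
      by_cases h : α k = 0
      · exact ⟨k * y, fun h' => hkL ((L.mul_mem_cancel_right hy).1 h'), by rw [hα, h, zero_add]; exact hαy,
          hcomm.mul_right (Commute.refl y)⟩
      · exact ⟨k, hkL, h, hcomm⟩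
    set i := ((α y)⁻¹).val with hi
    set j := ((α k₁)⁻¹).val with hj
    have hd : (y ^ i)⁻¹ * k₁ ^ j ∈ L := hle (mem_sup_left (mem_sup_left (subset_closure
      ⟨y ^ i, k₁ ^ j, hc₁.pow_pow i j, by rw [hi, hα.map_pow, ZMod.natCast_zmod_val, inv_mul_cancel₀ hαy],
        by rw [hj, hα.map_pow, ZMod.natCast_zmod_val, inv_mul_cancel₀ hk₁], rfl⟩)))
    rw [L.mul_mem_cancel_left (inv_mem (pow_mem hy i))] at hd
    have hcop : (orderOf k₁).Coprime j := by
      obtain ⟨n, hn⟩ := IsPGroup.iff_orderOf.1 hG k₁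
      rw [hn]
      refine Nat.Coprime.pow_left n ((Fact.out : p.Prime).coprime_iff_not_dvd.2 fun h => ?_)
      have : (j : ZMod p) = 0 := (ZMod.natCast_eq_zero_iff _ _).2 h
      rw [hj, ZMod.natCast_zmod_val, inv_eq_zero] at this
      exact hk₁ this
    obtain ⟨m, hm⟩ := exists_pow_eq_self_of_coprime (hcop.symm)
    exact hk₁L (hm ▸ pow_mem hd m)

theorem relIndex_le_index' {G : Type u} [Group G] [Finite G] (H K : Subgroup G) : H.relIndex K ≤ H.index :=
  H.relIndex_top_right ▸ relIndex_le_of_le_right le_top (by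
    rw [relIndex_top_right]; exact index_ne_zero_of_finite)

/-- Counting the derived subgroup over a normal subgroup of prime index. -/
theorem card_commutator_le {G : Type u} [Group G] [Finite G] {L : Subgroup G} [L.Normal] {g : G}
    (hgen : L ⊔ zpowers g = ⊤) :
    Nat.card (commutator G) ≤ Nat.card ↥(⁅L, L⁆) * (centralizer ({g} : Set G)).index := by
  set π := QuotientGroup.mk' ⁅L, L⁆ with hπ
  have hab : ∀ l ∈ L, ∀ m ∈ L, Commute (π l) (π m) := fun l hl m hm =>
    commutatorElement_eq_one_iff_commute.1 (by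
      rw [← map_commutatorElement]
      exact (QuotientGroup.eq_one_iff _).2 (commutator_mem_commutator hl hm))
  have hLmem : ∀ l ∈ L, ⁅l, g⁆ ∈ L := fun l hl => by
    rw [commutatorElement_def, mul_assoc l g l⁻¹, mul_assoc l (g * l⁻¹) g⁻¹]
    exact mul_mem hl (Subgroup.Normal.conj_mem ‹L.Normal› l⁻¹ (inv_mem hl) g)
  let τ : ↥L →* G ⧸ ⁅L, L⁆ := MonoidHom.mk' (fun l => π ⁅(l : G), g⁆) fun l m => by
    show π ⁅(l : G) * m, g⁆ = π ⁅(l : G), g⁆ * π ⁅(m : G), g⁆
    rw [show ⁅(l : G) * m, g⁆ = (l : G) * ⁅(m : G), g⁆ * (l : G)⁻¹ * ⁅(l : G), g⁆ by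
      simp only [commutatorElement_def]; group, map_mul, map_mul, map_mul,
      (hab l l.2 _ (hLmem m m.2)).eq, map_inv, mul_inv_cancel_right,
      (hab _ (hLmem m m.2) _ (hLmem l l.2)).eq]
  set R := τ.range with hR
  have hconj : ∀ r ∈ R, π g * r * (π g)⁻¹ ∈ R := by
    rintro _ ⟨l, rfl⟩
    refine ⟨⟨g * l * g⁻¹, Subgroup.Normal.conj_mem ‹L.Normal› l l.2 g⟩, ?_⟩
    show π ⁅g * l * g⁻¹, g⁆ = π g * π ⁅(l : G), g⁆ * (π g)⁻¹
    rw [← map_inv, ← map_mul, ← map_mul]
    congr 1
    simp only [commutatorElement_def]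
    group
  have hnorm : ∀ x : G, π x ∈ Subgroup.normalizer (R : Set (G ⧸ ⁅L, L⁆)) := by
    intro x
    have hx : x ∈ L ⊔ zpowers g := hgen ▸ mem_top x
    refine (show L ⊔ zpowers g ≤ (Subgroup.normalizer (R : Set (G ⧸ ⁅L, L⁆))).comap π from
      sup_le (fun l hl => ?_) (zpowers_le.2 ?_)) hx
    · rw [mem_comap, mem_normalizer_iff]
      intro r
      constructor
      · rintro ⟨m, rfl⟩
        refine ⟨m, ?_⟩
        show π ⁅(m : G), g⁆ = π l * π ⁅(m : G), g⁆ * (π l)⁻¹
        rw [(hab l hl _ (hLmem m m.2)).eq, mul_inv_cancel_right]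
      · rintro ⟨m, hm⟩
        refine ⟨m, ?_⟩
        have e : r = (π l)⁻¹ * τ m * π l := by rw [hm]; group
        rw [e]
        show π ⁅(m : G), g⁆ = (π l)⁻¹ * π ⁅(m : G), g⁆ * π l
        rw [mul_assoc, ← (hab l hl _ (hLmem m m.2)).eq, inv_mul_cancel_left]
    · rw [mem_comap]
      have hle : R.map (MulAut.conj (π g)).toMonoidHom ≤ R := by
        rintro _ ⟨r, hr, rfl⟩
        exact hconj r hr
      have heq : R.map (MulAut.conj (π g)).toMonoidHom = R :=
        eq_of_le_of_card_ge hle (le_of_eq (Nat.card_congr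
          (R.equivMapOfInjective _ (MulAut.conj (π g)).injective).toEquiv))
      rw [mem_normalizer_iff]
      intro r
      refine ⟨hconj r, fun h => ?_⟩
      obtain ⟨s, hs, hse⟩ := heq.ge h
      exact (MulAut.conj (π g)).injective (show MulAut.conj (π g) s = MulAut.conj (π g) r from hse) ▸ hs
  have hRn : R.Normal := ⟨fun r hr q => by
    obtain ⟨x, rfl⟩ := QuotientGroup.mk'_surjective _ q
    exact (mem_normalizer_iff.1 (hnorm x) r).1 hr⟩
  set ρ := (QuotientGroup.mk' R).comp π with hρ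
  have hρker : ∀ x, ρ x = 1 ↔ π x ∈ R := fun x => QuotientGroup.eq_one_iff _
  have hcomm : ∀ x y : G, Commute (ρ x) (ρ y) := by
    have hLg : ∀ l ∈ L, Commute (ρ l) (ρ g) := fun l hl =>
      commutatorElement_eq_one_iff_commute.1 (by
        rw [← map_commutatorElement, hρker]
        exact ⟨⟨l, hl⟩, rfl⟩)
    have hLL : ∀ l ∈ L, ∀ m ∈ L, Commute (ρ l) (ρ m) := fun l hl m hm => (hab l hl m hm).map (QuotientGroup.mk' R)
    have h1 : L ⊔ zpowers g ≤ (centralizer ((L.map ρ : Set ((G ⧸ ⁅L, L⁆) ⧸ R)) ∪ {ρ g})).comap ρ :=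
      sup_le (fun l hl => mem_comap.2 (mem_centralizer_iff.2 (by
        rintro s (⟨m, hm, rfl⟩ | rfl)
        · exact hLL m hm l hl
        · exact (hLg l hl).symm))) (zpowers_le.2 (mem_comap.2 (mem_centralizer_iff.2 (by
        rintro s (⟨m, hm, rfl⟩ | rfl)
        · exact hLg m hm
        · rfl))))
    rw [hgen] at h1
    intro x y
    have h2 : L ⊔ zpowers g ≤ (centralizer ({ρ x} : Set ((G ⧸ ⁅L, L⁆) ⧸ R))).comap ρ :=
      sup_le (fun l hl => mem_comap.2 (mem_centralizer_singleton_iff.2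
          (mem_centralizer_iff.1 (mem_comap.1 (h1 (mem_top x))) _ (Or.inl ⟨l, hl, rfl⟩))))
        (zpowers_le.2 (mem_comap.2 (mem_centralizer_singleton_iff.2
          (mem_centralizer_iff.1 (mem_comap.1 (h1 (mem_top x))) _ (Or.inr rfl)))))
    rw [hgen] at h2
    exact (mem_centralizer_singleton_iff.1 (mem_comap.1 (h2 (mem_top y)))).symm
  have hG' : (commutator G).map π ≤ R := map_le_iff_le_comap.2 (by
    rw [_root_.commutator_def, commutator_le]
    intro x _ y _
    rw [mem_comap, ← hρker, map_commutatorElement]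
    exact commutatorElement_eq_one_iff_commute.2 (hcomm x y))
  have h1 : Nat.card (commutator G) = Nat.card ↥(⁅L, L⁆) * Nat.card ↥((commutator G).map π) := by
    have hle : ⁅L, L⁆ ≤ commutator G := commutator_mono le_top le_top
    have hk : (π.comp (commutator G).subtype).ker = (⁅L, L⁆).subgroupOf (commutator G) := by
      rw [← MonoidHom.comap_ker, hπ, QuotientGroup.ker_mk']
      rfl
    rw [← (π.comp (commutator G).subtype).ker.card_mul_index, index_ker, hk,
      Nat.card_congr (subgroupOfEquivOfLe hle).toEquiv, MonoidHom.range_comp, range_subtype]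
  refine h1.le.trans (Nat.mul_le_mul_left _ ((card_le_of_le hG').trans ?_))
  rw [hR, ← index_ker]
  have hsub : (centralizer ({g} : Set G)).subgroupOf L ≤ τ.ker := fun l hl => by
    show π ⁅(l : G), g⁆ = 1
    rw [commutatorElement_eq_one_iff_commute.2 (show Commute (l : G) g from
      mem_centralizer_singleton_iff.1 (mem_subgroupOf.1 hl)), map_one]
  exact ((index_antitone hsub).trans (relIndex_le_index' _ _))

/-- The induction. -/
theorem card_commutator_le_pow : ∀ (n : ℕ) (G : Type u) [Group G] [Finite G], Nat.card G ≤ n → IsPGroup p G →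
    ∀ (b : ℕ) (M : Subgroup G), M ≠ ⊤ → (∀ x ∉ M, (centralizer ({x} : Set G)).index ≤ p ^ b) →
      Nat.card (commutator G) ≤ p ^ (b * (b + 1) / 2) := by
  intro n
  induction n with
  | zero => intro G _ _ h; exact absurd h (Nat.not_le.2 Nat.card_pos)
  | succ n ih =>
  intro G _ _ hn hG b M₀ hM₀ hb₀
  obtain ⟨M, hM, hle⟩ := (eq_top_or_exists_le_coatom M₀).resolve_left hM₀
  have hb : ∀ x ∉ M, (centralizer ({x} : Set G)).index ≤ p ^ b := fun x hx => hb₀ x fun h => hx (hle h)
  have hb' : ∀ L : Subgroup G, ∀ x : L, (centralizer ({x} : Set L)).index =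
      (centralizer ({(x : G)} : Set G)).relIndex L := fun L x => by
    rw [relIndex, show (centralizer ({(x : G)} : Set G)).subgroupOf L = centralizer ({x} : Set L) from
      SetLike.ext fun y => by
        simp only [mem_subgroupOf, mem_centralizer_singleton_iff]
        exact ⟨fun h => Subtype.ext h, fun h => congrArg Subtype.val h⟩]
  have recur : ∀ L : Subgroup G, IsCoatom L → L ≠ M → ∀ c : ℕ,
      (∀ x ∈ L, x ∉ M → (centralizer ({x} : Set G)).relIndex L ≤ p ^ c) →
      Nat.card ↥(⁅L, L⁆) ≤ p ^ (c * (c + 1) / 2) := by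
    intro L hL hLM c hc
    have hlt : Nat.card L ≤ n := by
      have h1 := L.card_mul_index
      rw [(CfsgLib.index_coatom_pGroup hG hL).2] at h1
      have h2 : Nat.card L * 2 ≤ Nat.card L * p := Nat.mul_le_mul_left _ (Fact.out : p.Prime).two_le
      have h3 : 0 < Nat.card L := Nat.card_pos
      omega
    have hne : M.subgroupOf L ≠ ⊤ := fun e => by
      rw [subgroupOf_eq_top] at e
      exact hLM ((eq_or_lt_of_le e).resolve_right fun hlt => hM.1 (hL.2 M hlt))
    have h := ih L hlt (hG.to_subgroup L) c (M.subgroupOf L) hne fun x hx => by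
      rw [hb']
      exact hc x x.2 hx
    rwa [← L.map_subtype_commutator, Nat.card_congr ((_root_.commutator L).equivMapOfInjective _ L.subtype_injective).symm.toEquiv]
  by_cases hab : commutator G = ⊥
  · rw [hab, card_bot]
    exact Nat.one_le_pow _ _ (Fact.out : p.Prime).pos
  have hb1 : 0 < b := by
    by_contra h
    refine hab ?_
    have hcen : ∀ x ∉ M, x ∈ center G := fun x hx => by
      have h1 := hb x hx
      rw [Nat.eq_zero_of_not_pos h, pow_zero] at h1
      have : centralizer ({x} : Set G) = ⊤ := index_eq_one.1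
        (le_antisymm h1 (Nat.pos_of_ne_zero index_ne_zero_of_finite))
      exact mem_center_iff.2 fun y => (mem_centralizer_singleton_iff.1 (this ▸ mem_top y))
    obtain ⟨x₀, -, hx₀⟩ := SetLike.exists_of_lt hM.1.lt_top
    have : center G = ⊤ := eq_top_iff.2 fun y _ => by
      by_cases hy : y ∈ M
      · have := mul_mem (hcen (y * x₀) (fun h => hx₀ ((M.mul_mem_cancel_left hy).1 h))) (inv_mem (hcen x₀ hx₀))
        rwa [mul_inv_cancel_right] at this
      · exact hcen y hy
    rw [_root_.commutator_def, commutator_eq_bot_iff_le_centralizer]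
    intro x _
    rw [mem_centralizer_iff]
    exact fun y _ => mem_center_iff.1 (this ▸ mem_top x) y
  by_cases hcase : ∃ L : Subgroup G, IsCoatom L ∧ L ≠ M ∧ ¬ ⁅L, L⁆ < commutator G
  · obtain ⟨L, hL, hLM, hLL⟩ := hcase
    have e : ⁅L, L⁆ = commutator G := (commutator_mono le_top le_top).eq_or_lt.resolve_right hLL
    rw [← e]
    exact recur L hL hLM b fun x _ hx => le_trans (relIndex_le_index' _ _) (hb x hx)
  push Not at hcase
  have hne : ∃ L : Subgroup G, IsCoatom L ∧ L ≠ M := by
    by_contra hc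
    push Not at hc
    obtain ⟨x₀, -, hx₀⟩ := SetLike.exists_of_lt hM.1.lt_top
    refine hab ?_
    have htop : zpowers x₀ = ⊤ := by
      by_contra h
      obtain ⟨L, hL, hle⟩ := (eq_top_or_exists_le_coatom _).resolve_left h
      exact hx₀ (hc L hL ▸ hle (mem_zpowers x₀))
    rw [_root_.commutator_def, commutator_eq_bot_iff_le_centralizer]
    intro x _
    rw [mem_centralizer_iff]
    intro y _
    obtain ⟨i, rfl⟩ := mem_zpowers_iff.1 (htop ▸ mem_top x)
    obtain ⟨j, rfl⟩ := mem_zpowers_iff.1 (htop ▸ mem_top y)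
    exact Commute.zpow_zpow (Commute.refl x₀) j i
  obtain ⟨L, hL, hLM, hclosed⟩ := exists_closed hG hM hne fun L hL hLM => hcase L hL hLM
  obtain ⟨hLn, hLi⟩ := CfsgLib.index_coatom_pGroup hG hL
  haveI := hLn
  have hdrop : ∀ x ∈ L, x ∉ M → (centralizer ({x} : Set G)).relIndex L ≤ p ^ (b - 1) := by
    intro x hx hxM
    have h := relIndex_mul_index (hclosed x hx hxM)
    rw [hLi] at h
    have h2 := hb x hxM
    rw [← h, show p ^ b = p ^ (b - 1) * p by rw [← pow_succ, Nat.sub_add_cancel hb1]] at h2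
    exact Nat.le_of_mul_le_mul_right h2 (Fact.out : p.Prime).pos
  obtain ⟨g, hgL, hgM⟩ : ∃ g, g ∉ L ∧ g ∉ M := by
    by_contra hc
    push Not at hc
    obtain ⟨x, hxL, hxM⟩ := SetLike.not_le_iff_exists.1 fun h : L ≤ M =>
      hLM ((eq_or_lt_of_le h).resolve_right fun hlt => hM.1 (hL.2 M hlt))
    obtain ⟨y, hyM, hyL⟩ := SetLike.not_le_iff_exists.1 fun h : M ≤ L =>
      hLM ((eq_or_lt_of_le h).resolve_right fun hlt => hL.1 (hM.2 L hlt)).symm
    exact hxM ((M.mul_mem_cancel_right hyM).1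
      (hc (x * y) fun h => hyL ((L.mul_mem_cancel_left hxL).1 h)))
  have hgen : L ⊔ zpowers g = ⊤ := hL.2 _ (lt_of_le_of_ne le_sup_left fun e =>
    hgL (e ▸ mem_sup_right (mem_zpowers g)))
  calc Nat.card (commutator G) ≤ Nat.card ↥(⁅L, L⁆) * (centralizer ({g} : Set G)).index :=
        card_commutator_le hgen
    _ ≤ p ^ ((b - 1) * (b - 1 + 1) / 2) * p ^ b := Nat.mul_le_mul (recur L hL hLM _ hdrop) (hb g hgM)
    _ = p ^ (b * (b + 1) / 2) := by
      rw [← pow_add]
      congr 1
      obtain ⟨c, rfl⟩ := Nat.exists_eq_add_of_le' hb1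
      rw [Nat.add_sub_cancel, show (c + 1) * (c + 1 + 1) = c * (c + 1) + (c + 1) * 2 by ring,
        Nat.add_mul_div_right _ _ two_pos]

end CfsgLib.Breadth
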